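import Cfsg.Agent.H417.DegMTwentyFour
import Cfsg.Agent.M24Order.LastEnd
import Cfsg.Agent.M24Order.Last23
import Cfsg.Prelude.Def_DegreeGraph

/-!
# The degrees of the Mathieu group of degree 24 (helper42)

`degs` : a superset of the degrees; `mems` : sixteen degrees.
-/

set_option autoImplicit false

namespace Cfsg.Agent.H42.S8.M24

open Cfsg Subgroup
open Cfsg.Agent Cfsg.Agent.Characters.Core Cfsg.Agent.M24Order
open Cfsg.Agent.M23Order.Base
open Cfsg.Agent.M24Order.Setup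
open Cfsg.Agent.M24Order.Last
open Cfsg.Agent.M24Order.LastRest
open Cfsg.Agent.M24Order.LastRestArith

universe u
variable {G : Type u} [Group G] [Finite G]

/-- a set containing the degrees of `M24` -/
def L : List ℕ := [1, 23, 45, 231, 252, 253, 483, 506, 759, 770, 990, 1012, 1035, 1265, 1518, 1771, 2024, 2277,
  2530, 3036, 3312, 3520, 3542, 3795, 4048, 4554, 5060, 5313, 5544, 5796, 10395]

/-- degrees of `M24` -/
def E : List ℕ := [1, 23, 45, 231, 252, 483, 770, 990, 1035, 1771, 2024, 3312, 3520, 5544, 5796, 10395]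

theorem row_eq : ∀ r ∈ Last.rows, r.2 = (770, 10) →
    (∀ p ∈ kd r, ∃ n ∈ E, p.1 = (n : ℤ)) ∧ (∀ n ∈ E, n ∉ [23, 483, 3312] → ∃ p ∈ kd r, p.1 = (n : ℤ)) ∧
    ((kd r).map fun p => p.1 ^ 2).sum = 244823040 - 35076932 - 529 * (21 ^ 2 + 144 ^ 2 + 45 ^ 2 + 45 ^ 2 + 1) := by
  decide +kernel

theorem arith2 : ∀ d ∈ A, d % 11 = 0 → d % 23 = 0 → d ≤ 5922 → d ∈ L := by
  decide +kernel

theorem sub : ∀ n ∈ E, n ∈ L := by decide

theorem exists_data (hG : Cfsg.IsM24 G) : ∃ (_ : IsSimpleGroup G) (H : Hyp G) (b : IrrCharacter G → ℤ)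
    (kdl : List (IrrCharacter G)) (r : List (ℤ × ℤ) × ℤ × ℤ) (R : Finset (IrrCharacter G)),
    (∀ χ : IrrCharacter G, χ ∈ H.D.NE ∨ χ ∈ H.D.X → χ ∈ kdl) ∧ kdl.Nodup ∧ kdl.map (pr b) = kd r ∧
    r ∈ Last.rows ∧ r.2 = (770, 10) ∧ (∀ χ : IrrCharacter G, dg χ % 11 ≠ 0 → χ ∉ kdl → χ ∈ R) ∧
    (∀ χ ∈ R, χ ∉ kdl ∧ dg χ = 23 * (dg χ / 23)) ∧
    R.val.map (fun χ => dg χ / 23) = ↑([21, 144, 45, 45, 1] : List ℕ) := by
  classical
  have hs : IsSimpleGroup G := hG.1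
  obtain ⟨H⟩ := Final.exists_hyp hG.2
  have : Fact (Nat.Prime 5) := ⟨by norm_num⟩
  have : Fact (Nat.Prime 7) := ⟨by norm_num⟩
  obtain ⟨R⟩ : Nonempty (Sylow 5 G) := inferInstance
  obtain ⟨S⟩ : Nonempty (Sylow 7 G) := inferInstance
  obtain ⟨K, M, B, ε, a, b, c, d, h5, ⟨K', M', D, a', h7⟩ | ⟨K', M', B', ε', l', h7⟩⟩ :=
    SporadicA.M24.Convert.exists_blocks H R S
  · obtain ⟨t, v, Θ, Θ', L⟩ := ToLast.exists_last H h5 h7
    obtain ⟨l, r, B⟩ := Last23.exists_block L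
    obtain ⟨kwl, kdl, N⟩ := exists_kn L B
    obtain ⟨hr2, hmult⟩ := main B.mem (hyps L N)
    refine ⟨hs, H, v, kdl, r, rst H kdl, N.mem, N.nd, N.kd, B.mem, hr2, ?_, ?_, hmult⟩
    · intro χ h11 hχ
      exact Finset.mem_sdiff.2 ⟨(mem_B11 H).2 h11, fun h => hχ (List.mem_toFinset.1 h)⟩
    · intro χ hχ
      exact ⟨notMem_kdl hχ, (rst_arith N hχ).2.1.symm⟩
  · exact (S0422.six_false (SporadicA.M24.Convert.conv H) h5 h7).elim

theorem degs (hG : Cfsg.IsM24 G) {n : ℕ} (hn : n ∈ charDegrees G) : n ∈ L := by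
  classical
  obtain ⟨hs, H, b, kdl, r, R, hmem, hnd, hkd, hr, hr2, hR, hR2, hm⟩ := exists_data hG
  obtain ⟨h1, h2, h3⟩ := row_eq r hr hr2
  obtain ⟨χ, rfl⟩ := hn
  change dg χ ∈ L
  by_cases hk : χ ∈ kdl
  · have h4 : pr b χ ∈ kd r := by
      rw [← hkd]
      exact List.mem_map.2 ⟨χ, hk, rfl⟩
    obtain ⟨n, hn, h5⟩ := h1 _ h4
    have h6 : dg χ = n := by
      have : ((dg χ : ℕ) : ℤ) = n := h5
      exact_mod_cast this
    rw [h6]
    exact sub n hn
  by_cases h11 : dg χ % 11 = 0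
  · have h23 : dg χ % 23 = 0 := mod23_out H (fun h => hk (hmem χ (Or.inl h))) (fun h => hk (hmem χ (Or.inr h)))
    refine arith2 _ (dg_mem_A H χ) h11 h23 ?_
    have hχR : χ ∉ R := by
      intro hχ
      have h4 : dg χ / 23 ∈ R.val.map (fun χ => dg χ / 23) := Multiset.mem_map_of_mem _ hχ
      rw [hm, Multiset.mem_coe] at h4
      have h5 := (hR2 χ hχ).2
      simp only [List.mem_cons, List.not_mem_nil, or_false] at h4
      omega
    have h4 := sum_dg_sq_le (insert χ (R ∪ kdl.toFinset))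
    rw [Finset.sum_insert, Finset.sum_union, H.hcard] at h4
    · have h5 : ((∑ χ ∈ kdl.toFinset, dg χ ^ 2 : ℕ) : ℤ) = ((kd r).map fun p => p.1 ^ 2).sum := by
        push_cast
        exact sum_map (b := b) (F := fun p => p.1 ^ 2) hnd hkd
      have h6 : ∑ χ ∈ R, dg χ ^ 2 = ((R.val.map (fun χ => dg χ / 23)).map fun m => 529 * m ^ 2).sum := by
        rw [Multiset.map_map]
        change _ = ∑ χ ∈ R, 529 * (dg χ / 23) ^ 2
        refine Finset.sum_congr rfl fun ψ hψ => ?_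
        have h7 := (hR2 ψ hψ).2
        conv_lhs => rw [h7]
        ring
      rw [hm] at h6
      have h7 : (Multiset.map (fun m : ℕ => 529 * m ^ 2) ↑([21, 144, 45, 45, 1] : List ℕ)).sum =
          529 * (21 ^ 2 + 144 ^ 2 + 45 ^ 2 + 45 ^ 2 + 1) := by decide
      rw [h7] at h6
      rw [h3] at h5
      by_contra hcon
      push Not at hcon
      have h8 : 5923 ^ 2 ≤ dg χ ^ 2 := Nat.pow_le_pow_left (by omega) 2
      rw [h6] at h4
      simp only [Nat.reducePow, Nat.reduceAdd, Nat.reduceMul, Int.reducePow, Int.reduceAdd, Int.reduceMul,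
        Int.reduceSub] at h4 h5 h8
      omega
    · rw [Finset.disjoint_left]
      intro ψ hψ hψ'
      exact (hR2 ψ hψ).1 (List.mem_toFinset.1 hψ')
    · simp only [Finset.mem_union, List.mem_toFinset, not_or]
      exact ⟨hχR, hk⟩
  · have hχ := hR χ h11 hk
    have h4 : dg χ / 23 ∈ R.val.map (fun χ => dg χ / 23) := Multiset.mem_map_of_mem _ hχ
    rw [hm, Multiset.mem_coe] at h4
    have h5 := (hR2 χ hχ).2
    simp only [List.mem_cons, List.not_mem_nil, or_false] at h4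
    rw [h5]
    rcases h4 with h4 | h4 | h4 | h4 | h4 <;> rw [h4] <;> decide

theorem mems (hG : Cfsg.IsM24 G) {n : ℕ} (hn : n ∈ E) : n ∈ charDegrees G := by
  classical
  obtain ⟨hs, H, b, kdl, r, R, hmem, hnd, hkd, hr, hr2, hR, hR2, hm⟩ := exists_data hG
  obtain ⟨h1, h2, h3⟩ := row_eq r hr hr2
  by_cases h : n ∈ [23, 483, 3312]
  · have h4 : n / 23 ∈ R.val.map (fun χ => dg χ / 23) := by
      rw [hm, Multiset.mem_coe]
      simp only [List.mem_cons, List.not_mem_nil, or_false] at h ⊢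
      rcases h with rfl | rfl | rfl <;> decide
    obtain ⟨χ, hχ, h5⟩ := Multiset.mem_map.1 h4
    refine ⟨χ, ?_⟩
    change dg χ = n
    rw [(hR2 χ hχ).2, h5]
    simp only [List.mem_cons, List.not_mem_nil, or_false] at h
    rcases h with rfl | rfl | rfl <;> decide
  · obtain ⟨p, hp, hpn⟩ := h2 n hn h
    rw [← hkd] at hp
    obtain ⟨χ, hχ, rfl⟩ := List.mem_map.1 hp
    refine ⟨χ, ?_⟩
    change dg χ = n
    have : ((dg χ : ℕ) : ℤ) = n := hpn
    exact_mod_cast this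

end Cfsg.Agent.H42.S8.M24
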