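import Cfsg.Agent.H417.DegMTwentyThree
import Cfsg.Prelude.Def_DegreeGraph

/-!
# The possible degrees of the Mathieu group of degree 23 (helper42)
-/

set_option autoImplicit false

namespace Cfsg.Agent.H42.S8.M23

open Cfsg Subgroup
open Cfsg.Agent.M23 Cfsg.Agent.M23.ElevenCommon
open Cfsg.Agent.M23Order.Base
open Cfsg.Agent.M23Order.Setup
open Cfsg.Agent.M23Order.ColumnEleven
open Cfsg.Agent.M23Order.TwentyThree
open Cfsg.Agent.H417.DegMTwentyThree

universe u
variable {G : Type u} [Group G] [Finite G]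

/-- a set containing the degrees of `M23` -/
def L : List ℕ := [1, 22, 45, 230, 231, 253, 264, 495, 506, 528, 759, 770, 896, 990, 1012, 1035, 1265, 1518, 1540,
  1760, 2024]

theorem arith2 : ∀ d ∈ A, d % 11 = 0 → d ≠ 11 → d ≠ 1771 → d ≤ 1837 ∨ d = 2024 → d ∈ L := by
  decide

theorem degs (hG : Cfsg.IsM23 G) {n : ℕ} (hn : n ∈ charDegrees G) : n ∈ L := by
  classical
  obtain ⟨hs, H, z, v, a, b, c, d, g, h, b₁, c₁, K⟩ := exists_elev' hG
  obtain ⟨χ, rfl⟩ := hn
  change dg χ ∈ L
  by_cases hX : χ ∈ H.E.X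
  · rcases (K.X χ).1 hX with rfl | rfl
    · rw [K.dgb₁]; decide
    · rw [K.dgc₁]; decide
  by_cases hN : χ ∈ H.E.NE
  · by_cases h1 : χ = H.D.one
    · rw [h1, dg_one H]; decide
    · have := (K.mem χ).2 ⟨hN, h1⟩
      simp only [List.mem_cons, List.not_mem_nil, or_false] at this
      rcases this with rfl | rfl | rfl | rfl
      · rw [K.dga]; decide
      · rw [K.dgb]; decide
      · rw [K.dgc]; decide
      · rw [K.dgd]; decide
  · have h11 := mod11_out H hN hX
    refine arith2 _ (dg_mem_A H χ) h11 (dg_ne_eleven H χ) (not_1771 K χ) ?_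
    by_contra hcon
    push Not at hcon
    obtain ⟨hc1, hc2⟩ := hcon
    have hne : ∀ {χ ψ : IrrCharacter G}, dg χ ≠ dg ψ → χ ≠ ψ := fun h h' => h (by rw [h'])
    have h1 := sum_dg_sq_le ({a, d, h, b₁, c₁, χ} : Finset (IrrCharacter G))
    have da := K.dga
    have dd := K.dgd
    have dh := K.dgh
    have db₁ := K.dgb₁
    have dc₁ := K.dgc₁
    have h2 : 1838 ^ 2 ≤ dg χ ^ 2 := Nat.pow_le_pow_left (by omega) 2
    rw [Finset.sum_insert, Finset.sum_insert, Finset.sum_insert, Finset.sum_insert,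
      Finset.sum_insert, Finset.sum_singleton, H.hcard, da, dd, dh, db₁, dc₁] at h1
    · simp only [Nat.reducePow] at h1 h2
      omega
    all_goals
      simp only [Finset.mem_insert, Finset.mem_singleton, not_or]
      first
      | exact hne (by omega)
      | exact ⟨K.b₁_ne, hne (by omega)⟩
      | exact ⟨hne (by omega), hne (by omega)⟩
      | exact ⟨hne (by omega), hne (by omega), hne (by omega)⟩
      | exact ⟨hne (by omega), hne (by omega), hne (by omega), hne (by omega)⟩
      | exact ⟨hne (by omega), hne (by omega), hne (by omega), hne (by omega), hne (by omega)⟩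

end Cfsg.Agent.H42.S8.M23
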