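import Cfsg.Agent.H42.S8.Soc
import Cfsg.Agent.H42.S8.M23D
import Cfsg.Agent.H58.S8.Iso
import Cfsg.Agent.H334.DS.DegsLeech
import Cfsg.Agent.H587.LD.RowM24
import Cfsg.Agent.H603.FD.Spor
import Cfsg.Agent.H345.K4.Co2
import Cfsg.Agent.H769.PB.CoThreeRank5

/-!
# S4908, SOC1 for `M23` (helper42)
-/

set_option autoImplicit false

universe u v

namespace Cfsg.Agent.H42.S8

open Cfsg Cfsg.Agent.H704.S8
open Cfsg.Agent.H691.AN (AlmostSimple)
open Cfsg.Agent.H424.DegTools (mem_charDegrees charDegrees_of_surjective charDegrees_congr dvd_card clifford_down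
  clifford_up pos_of_mem)

/-- transport of a degree -/
theorem mem_congr {G : Type u} [Group G] {H : Type v} [Group H] (e : G ≃* H) {d : ℕ}
    (h : ∃ χ : IrrCharacter H, charDegree (χ : H → ℂ) = d) : d ∈ charDegrees G :=
  charDegrees_of_surjective e.toMonoidHom e.surjective h

theorem mem_hasDeg {G : Type*} [Group G] {m : ℕ} (h : H334.DS.HasDeg G m) : m ∈ charDegrees G := by
  obtain ⟨ψ, h1, h2⟩ := h
  exact mem_charDegrees.2 ⟨ψ, h1, h2⟩

section kills

variable {A : Type u} [Group A] [Finite A] {S : Subgroup A}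

theorem deg_m11 (hA : AlmostSimple A S) (h : Spor.IsoM11 S) : 10 ∈ charDegrees A ∨ 20 ∈ charDegrees A :=
  Soc.two_deg hA (H603.FD.Spor.index_dvd_two S hA.normal hA.cent h S2060.result (by norm_num))
    (H603.FD.Spor.m11 (UGT.End.MEleven.isM11 h)).1

theorem deg_m12 (hA : AlmostSimple A S) (h : Spor.IsoM12 S) : 54 ∈ charDegrees A ∨ 108 ∈ charDegrees A :=
  Soc.two_deg hA (H603.FD.Spor.index_dvd_two S hA.normal hA.cent h S2061.result (by norm_num))
    (H603.FD.Spor.m12 (H603.FD.Spor.isM12 h)).2.2.1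

theorem deg_m22 (hA : AlmostSimple A S) (h : Spor.IsoM22 S) : 21 ∈ charDegrees A ∨ 42 ∈ charDegrees A :=
  Soc.two_deg hA (H603.FD.Spor.index_dvd_two S hA.normal hA.cent h S2062.result (by norm_num))
    (H603.FD.Spor.m22 (H417.RecogMathieu.isM22 h)).1

theorem deg_m23 (hA : AlmostSimple A S) (h : Spor.IsoM23 S) : 230 ∈ charDegrees A ∨ 460 ∈ charDegrees A :=
  Soc.two_deg hA (H603.FD.Spor.index_dvd_two S hA.normal hA.cent h S2063.result (by norm_num))
    (H603.FD.Spor.m23 (H417.RecogMathieu.isM23 h)).1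

theorem deg_m24 (hA : AlmostSimple A S) (h : Spor.IsoM24 S) : 5796 ∈ charDegrees A ∨ 2 * 5796 ∈ charDegrees A :=
  Soc.two_deg hA (H603.FD.Spor.index_dvd_two S hA.normal hA.cent h S2064.result (by norm_num))
    (H603.FD.Spor.m24 (H417.RecogMathieu.isM24 h)).2.1

theorem deg_j2 (hA : AlmostSimple A S) (h : Spor.IsoJ2 S) : 63 ∈ charDegrees A ∨ 126 ∈ charDegrees A :=
  Soc.two_deg hA (H603.FD.Spor.index_dvd_two S hA.normal hA.cent h S2066.result (by norm_num))
    (mem_hasDeg (H334.DS.j2 h).2)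

theorem deg_hs (hA : AlmostSimple A S) (h : Spor.IsoHS S) : 77 ∈ charDegrees A ∨ 154 ∈ charDegrees A :=
  Soc.two_deg hA (H603.FD.Spor.index_dvd_two S hA.normal hA.cent h S2072.result (by norm_num))
    (mem_hasDeg (H334.DS.hs h).2)

theorem deg_mcl (hA : AlmostSimple A S) (h : Spor.IsoMcL S) : 252 ∈ charDegrees A ∨ 504 ∈ charDegrees A :=
  Soc.two_deg hA (H603.FD.Spor.index_dvd_two S hA.normal hA.cent h S2073.result (by norm_num))
    (mem_hasDeg (H334.DS.mcl h).2)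

theorem deg_co3 (hA : AlmostSimple A S) (h : Spor.IsoCo3 S) : 275 ∈ charDegrees A ∨ 550 ∈ charDegrees A := by
  obtain ⟨χ, -, hχ, -⟩ := H769.PB.CoThreeRank5.exists_275
  exact Soc.two_deg hA (H603.FD.Spor.index_dvd_two S hA.normal hA.cent h S2071.result (by norm_num))
    (mem_congr h.some ⟨χ, hχ⟩)

theorem deg_co2 (hA : AlmostSimple A S) (h : Spor.IsoCo2 S) : 275 ∈ charDegrees A ∨ 550 ∈ charDegrees A := by
  obtain ⟨χ, ⟨hχ, -⟩, h1⟩ := H345.K4.Co2.exists_275
  exact Soc.two_deg hA (H603.FD.Spor.index_dvd_two S hA.normal hA.cent h S2070.result (by norm_num))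
    (mem_congr h.some ⟨⟨χ, hχ.1⟩, h1⟩)

end kills

/-- the primes dividing a divisor of `10200960` or `244823040` -/
theorem primes {p d : ℕ} (hp : p.Prime) (h : p ∣ d) (hd : d ∣ 244823040 ∨ d ∣ 10200960) :
    p ∈ [2, 3, 5, 7, 11, 23] := by
  have h1 : p ∣ 2 ^ 10 * (3 ^ 3 * (5 * (7 * (11 * 23)))) := by
    rcases hd with hd | hd
    · exact (h.trans hd).trans (by norm_num)
    · exact (h.trans hd).trans (by norm_num)
  have key : ∀ {q n : ℕ}, q.Prime → p ∣ q ^ n → p = q := fun hq h =>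
    (Nat.prime_dvd_prime_iff_eq hp hq).1 (hp.dvd_of_dvd_pow h)
  rcases hp.dvd_mul.1 h1 with h1 | h1
  · rw [key (by norm_num) h1]; decide
  rcases hp.dvd_mul.1 h1 with h1 | h1
  · rw [key (by norm_num) h1]; decide
  rcases hp.dvd_mul.1 h1 with h1 | h1
  · rw [(Nat.prime_dvd_prime_iff_eq hp (by norm_num)).1 h1]; decide
  rcases hp.dvd_mul.1 h1 with h1 | h1
  · rw [(Nat.prime_dvd_prime_iff_eq hp (by norm_num)).1 h1]; decide
  rcases hp.dvd_mul.1 h1 with h1 | h1
  · rw [(Nat.prime_dvd_prime_iff_eq hp (by norm_num)).1 h1]; decide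
  · rw [(Nat.prime_dvd_prime_iff_eq hp (by norm_num)).1 h1]; decide

namespace M23

theorem no_pp : ∀ d ∈ L, d ≠ 1 → ∃ a ∈ [2, 3, 5, 7, 11, 23], ∃ b ∈ [2, 3, 5, 7, 11, 23], a ≠ b ∧ a ∣ d ∧ b ∣ d := by
  decide +kernel

theorem prime_of_mem : ∀ a ∈ [2, 3, 5, 7, 11, 23], a.Prime := by
  intro a ha
  simp only [List.mem_cons, List.not_mem_nil, or_false] at ha
  rcases ha with rfl | rfl | rfl | rfl | rfl | rfl <;> norm_num

theorem pow_not_mem {p k : ℕ} (hp : p.Prime) (hk : k ≠ 0) : p ^ k ∉ L := by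
  intro h
  have h1 : p ^ k ≠ 1 := by
    have := Nat.one_lt_pow hk hp.one_lt
    omega
  obtain ⟨a, ha, b, hb, hab, h2, h3⟩ := no_pp _ h h1
  have ha' := prime_of_mem a ha
  have hb' := prime_of_mem b hb
  have h4 := (Nat.prime_dvd_prime_iff_eq ha' hp).1 (ha'.dvd_of_dvd_pow h2)
  have h5 := (Nat.prime_dvd_prime_iff_eq hb' hp).1 (hb'.dvd_of_dvd_pow h3)
  exact hab (h4.trans h5.symm)

theorem data {X : Type v} [Group X] [Finite X] (hX : Cfsg.IsM23 X) : H245.S8.Data 1 X 13 22 where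
  out := by omega
  prime := by norm_num
  odd := by norm_num
  ndvd := by rw [hX.2]; norm_num
  ge := by
    intro d hd h2
    have h3 := degs hX hd
    have : ∀ d ∈ L, 2 ≤ d → 22 ≤ d := by decide
    exact this d h3 h2
  ten := by norm_num
  le := by norm_num

/-- **SOC1 for `M23`** -/
theorem soc1 {X : Type v} [Group X] [Finite X] (hX : Cfsg.IsM23 X) {D : Set ℕ} (hD : Deg 1 X D) :
    Soc1.{u} D X := by
  intro A _ _ S hA hAD
  have hDX : D = charDegrees X := by
    rcases hD with h | ⟨h, -⟩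
    · exact h
    · omega
  have hL : ∀ d ∈ charDegrees A, d ∈ L := fun d hd => degs hX (by rw [← hDX]; exact hAD hd)
  have hP : ∀ d ∈ charDegrees A, ∀ p : ℕ, p.Prime → p ∣ d → p ∈ [2, 3, 5, 7, 11, 23] := by
    intro d hd p hp hpd
    have h1 : d ∈ charDegrees X := by rw [← hDX]; exact hAD hd
    exact primes hp hpd (Or.inr (by rw [← hX.2]; exact dvd_card h1))
  have kill : ∀ {a b : ℕ}, (a ∈ charDegrees A ∨ b ∈ charDegrees A) → (a ∉ L ∧ b ∉ L) → False := by
    rintro a b (h | h) ⟨h1, h2⟩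
    · exact h1 (hL _ h)
    · exact h2 (hL _ h)
  rcases Soc.cases hA hP with ⟨m, hm, ⟨e⟩⟩ | ⟨p, hp, h⟩ | h | h | h | h | h | h | h | h | h | h
  · exact ((data hX).no_alt hD hA hAD hm e).elim
  · obtain ⟨h1, h2⟩ := Soc.lie_deg hA hp h
    exact (pow_not_mem hp (hp.factorization_pos_of_dvd Nat.card_pos.ne' h2).ne' (hL _ h1)).elim
  · exact (kill (deg_m11 hA h) (by decide)).elim
  · exact (kill (deg_m12 hA h) (by decide)).elim
  · exact (kill (deg_m22 hA h) (by decide)).elim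
  · obtain ⟨e⟩ := h
    obtain ⟨f⟩ := H58.S8.iso_m23 hX
    exact ⟨e.trans f.symm⟩
  · exact (kill (deg_m24 hA h) (by decide)).elim
  · exact (kill (deg_j2 hA h) (by decide)).elim
  · exact (kill (deg_hs hA h) (by decide)).elim
  · exact (kill (deg_mcl hA h) (by decide)).elim
  · exact (kill (deg_co3 hA h) (by decide)).elim
  · exact (kill (deg_co2 hA h) (by decide)).elim

end M23

end Cfsg.Agent.H42.S8
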