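import Cfsg.Agent.H42.S8.M23
import Cfsg.Agent.H42.S8.M24D
import Cfsg.Agent.H690.S8.Lie

/-!
# S4908, SOC1 for `M24` (helper42)
-/

set_option autoImplicit false

universe u v

namespace Cfsg.Agent.H42.S8.M24

open Cfsg Cfsg.Agent.H704.S8
open Cfsg.Agent.H691.AN (AlmostSimple)
open Cfsg.Agent.H424.DegTools (mem_charDegrees charDegrees_of_surjective charDegrees_congr dvd_card clifford_down
  clifford_up pos_of_mem)

theorem data {X : Type v} [Group X] [Finite X] (hX : Cfsg.IsM24 X) : H245.S8.Data 1 X 13 23 where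
  out := by omega
  prime := by norm_num
  odd := by norm_num
  ndvd := by rw [hX.2]; norm_num
  ge := by
    intro d hd h2
    have h3 := degs hX hd
    have : ∀ d ∈ L, 2 ≤ d → 23 ≤ d := by decide
    exact this d h3 h2
  ten := by norm_num
  le := by norm_num

/-- **SOC1 for `M24`** -/
theorem soc1 {X : Type v} [Group X] [Finite X] (hX : Cfsg.IsM24 X) {D : Set ℕ} (hD : Deg 1 X D) :
    Soc1.{u} D X := by
  intro A _ _ S hA hAD
  have hDX : D = charDegrees X := by
    rcases hD with h | ⟨h, -⟩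
    · exact h
    · omega
  have hL' : ∀ d ∈ D, d ∈ L := fun d hd => degs hX (by rw [← hDX]; exact hd)
  have hL : ∀ d ∈ charDegrees A, d ∈ L := fun d hd => hL' d (hAD hd)
  have hP : ∀ d ∈ charDegrees A, ∀ p : ℕ, p.Prime → p ∣ d → p ∈ [2, 3, 5, 7, 11, 23] := by
    intro d hd p hp hpd
    have h1 : d ∈ charDegrees X := by rw [← hDX]; exact hAD hd
    exact primes hp hpd (Or.inl (by rw [← hX.2]; exact dvd_card h1))
  have kill : ∀ {a b : ℕ}, (a ∈ charDegrees A ∨ b ∈ charDegrees A) → (a ∉ L ∧ b ∉ L) → False := by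
    rintro a b (h | h) ⟨h1, h2⟩
    · exact h1 (hL _ h)
    · exact h2 (hL _ h)
  rcases Soc.cases hA hP with ⟨m, hm, ⟨e⟩⟩ | ⟨p, hp, h⟩ | h | h | h | h | h | h | h | h | h | h
  · exact ((data hX).no_alt hD hA hAD hm e).elim
  · exact (H690.S8.lie_false_list hL' (by decide +kernel) hA hAD hp h).elim
  · exact (kill (deg_m11 hA h) (by decide)).elim
  · exact (kill (deg_m12 hA h) (by decide)).elim
  · exact (kill (deg_m22 hA h) (by decide)).elim
  · exact (kill (deg_m23 hA h) (by decide)).elim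
  · obtain ⟨e⟩ := h
    obtain ⟨f⟩ := H58.S8.iso_m24 hX
    exact ⟨e.trans f.symm⟩
  · exact (kill (deg_j2 hA h) (by decide)).elim
  · exact (kill (deg_hs hA h) (by decide)).elim
  · have h1 : 252 ∈ charDegrees A ∨ 504 ∈ charDegrees A := deg_mcl hA h
    have h2 : 22 ∈ charDegrees A ∨ 44 ∈ charDegrees A :=
      Soc.two_deg hA (H603.FD.Spor.index_dvd_two S hA.normal hA.cent h S2073.result (by norm_num))
        (mem_hasDeg (H334.DS.mcl h).1)
    exact (kill h2 (by decide)).elim
  · exact (kill (deg_co3 hA h) (by decide)).elim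
  · exact (kill (deg_co2 hA h) (by decide)).elim

end Cfsg.Agent.H42.S8.M24
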