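import Cfsg.Agent.H245.S8.SocAlt
import Cfsg.Agent.S0000
import Cfsg.Agent.S4760
import Cfsg.Agent.NotCT.Orders
import Cfsg.Agent.OddHalf.Known
import Cfsg.Agent.H414.LieShape

/-!
# S4908, SOC1: reduction of the socle (helper42)

* `prime_deg` : the primes of the socle divide degrees;
* `lie_deg` : the Steinberg degree;
* `cases` : if only the primes `2, 3, 5, 7, 11, 23` divide degrees: the possible socles.
-/

set_option autoImplicit false

universe u v

namespace Cfsg.Agent.H42.S8.Soc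

open Cfsg Cfsg.Agent.H704.S8
open Cfsg.Agent.H691.AN (AlmostSimple)
open Cfsg.Agent.H424.DegTools (mem_charDegrees charDegrees_of_surjective charDegrees_congr dvd_card clifford_down
  clifford_up pos_of_mem)

variable {A : Type u} [Group A] [Finite A] {S : Subgroup A}

theorem prime_deg (hA : AlmostSimple A S) {p : ℕ} (hp : p.Prime) (hd : p ∣ Nat.card S) :
    ∃ d ∈ charDegrees A, p ∣ d := by
  by_contra hcon
  push Not at hcon
  have : Fact p.Prime := ⟨hp⟩
  obtain ⟨P⟩ := (inferInstance : Nonempty (Sylow p A))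
  obtain ⟨hn, hc⟩ := (S4760.result p P).2 fun χ => hcon _ ⟨χ, rfl⟩
  have hSn := hA.normal
  have hs := hA.simple
  have h1 : ((P : Subgroup A).subgroupOf S).Normal := hn.subgroupOf S
  rcases h1.eq_bot_or_eq_top with h2 | h2
  · have h3 : (P : Subgroup A) ≤ Subgroup.centralizer (S : Set A) := by
      intro x hx
      rw [Subgroup.mem_centralizer_iff]
      intro s hs'
      have h4 : s * x * s⁻¹ * x⁻¹ ∈ (P : Subgroup A) := (P : Subgroup A).mul_mem (hn.conj_mem x hx s) ((P : Subgroup A).inv_mem hx)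
      have h5 : s * x * s⁻¹ * x⁻¹ ∈ S := by
        have : s * x * s⁻¹ * x⁻¹ = s * (x * s⁻¹ * x⁻¹) := by group
        rw [this]
        exact S.mul_mem hs' (hSn.conj_mem _ (S.inv_mem hs') x)
      have h6 : (⟨_, h5⟩ : S) ∈ (P : Subgroup A).subgroupOf S := h4
      rw [h2, Subgroup.mem_bot] at h6
      have h7 : s * x * s⁻¹ * x⁻¹ = 1 := congrArg Subtype.val h6
      rw [mul_inv_eq_one, mul_inv_eq_iff_eq_mul] at h7
      exact h7
    rw [hA.cent] at h3
    have h4 : Nat.card P = 1 := by
      rw [Subgroup.card_eq_one]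
      exact le_bot_iff.1 h3
    have h5 : p ∣ Nat.card P := P.dvd_card_of_dvd_card (hd.trans (Subgroup.card_subgroup_dvd_card S))
    rw [h4] at h5
    exact hp.one_lt.ne' (Nat.dvd_one.1 h5)
  · have h3 : S ≤ (P : Subgroup A) := Subgroup.subgroupOf_eq_top.1 h2
    apply hA.nonab
    refine ⟨⟨fun a b => ?_⟩⟩
    have h4 := hc.is_comm.comm ⟨a, h3 a.2⟩ ⟨b, h3 b.2⟩
    exact Subtype.ext (congrArg (fun x : (P : Subgroup A) => (x : A)) h4)

theorem lie_deg (hA : AlmostSimple A S) {p : ℕ} (hp : p.Prime) (h : IsLieTypeChar p S) :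
    p ^ (Nat.card S).factorization p ∈ charDegrees A ∧ p ∣ Nat.card S := by
  have : Fact p.Prime := ⟨hp⟩
  have hSn := hA.normal
  have hs := hA.simple
  obtain ⟨χ, hχ, -, h1⟩ := H691.StExt.exists_ext S (H996.AllSplit.hasSplit_of_lie hp h)
  obtain ⟨Q⟩ := (inferInstance : Nonempty (Sylow p S))
  refine ⟨mem_charDegrees.2 ⟨χ, hχ, by rw [h1 Q, Q.card_eq_multiplicity]⟩, ?_⟩
  exact (H414.LieShape.shape_of_lie hp h).elim fun _ h => h.elim fun _ h => h.elim fun _ h => h.elim fun _ h => h.chr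

theorem two_deg (hA : AlmostSimple A S) (hidx : S.index ∣ 2) {e : ℕ} (he : e ∈ charDegrees S) :
    e ∈ charDegrees A ∨ 2 * e ∈ charDegrees A := by
  have hSn := hA.normal
  obtain ⟨d, hd, ⟨k, rfl⟩, h2⟩ := clifford_up S he
  have he0 := pos_of_mem he
  rw [Nat.mul_div_cancel_left _ he0] at h2
  rcases (Nat.dvd_prime Nat.prime_two).1 (h2.trans hidx) with rfl | rfl
  · left; rwa [mul_one] at hd
  · right; rwa [mul_comm]

/-- the possible socles if only `2, 3, 5, 7, 11, 23` divide degrees -/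
theorem cases (hA : AlmostSimple A S)
    (hP : ∀ d ∈ charDegrees A, ∀ p : ℕ, p.Prime → p ∣ d → p ∈ [2, 3, 5, 7, 11, 23]) :
    (∃ m : ℕ, 5 ≤ m ∧ Nonempty (S ≃* alternatingGroup (Fin m))) ∨ (∃ p : ℕ, p.Prime ∧ IsLieTypeChar p S) ∨
      Spor.IsoM11 S ∨ Spor.IsoM12 S ∨ Spor.IsoM22 S ∨ Spor.IsoM23 S ∨ Spor.IsoM24 S ∨ Spor.IsoJ2 S ∨ Spor.IsoHS S ∨
      Spor.IsoMcL S ∨ Spor.IsoCo3 S ∨ Spor.IsoCo2 S := by
  have hs := hA.simple
  have kill : ∀ {p n : ℕ}, p.Prime → Nat.card S = n → p ∣ n → p ∉ [2, 3, 5, 7, 11, 23] → False := by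
    intro p n hp hn hd hmem
    subst hn
    obtain ⟨d, hd1, hd2⟩ := prime_deg hA hp hd
    exact hmem (hP d hd1 p hp hd2)
  rcases OddHalf.Known.classify' hA.nonab (Cfsg.Agent.S0000.result (G := S)) with h1 | h1 | h1 | h1
  · exact Or.inl h1
  · exact Or.inr (Or.inl h1)
  · exact (kill (p := 13) (by norm_num) (NotCT.Orders.tits h1) (by norm_num) (by decide)).elim
  · rcases h1 with h1 | h1 | h1 | h1 | h1 | h1 | h1 | h1 | h1 | h1 | h1 | h1 | h1 | h1 | h1 | h1 | h1 | h1 | h1 |
      h1 | h1 | h1 | h1 | h1 | h1 | h1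
    · tauto
    · tauto
    · tauto
    · tauto
    · tauto
    · exact (kill (p := 19) (by norm_num) (NotCT.Orders.j1 h1) (by norm_num) (by decide)).elim
    · tauto
    · exact (kill (p := 19) (by norm_num) (NotCT.Orders.j3 h1) (by norm_num) (by decide)).elim
    · exact (kill (p := 29) (by norm_num) (NotCT.Orders.j4 h1) (by norm_num) (by decide)).elim
    · exact (kill (p := 13) (by norm_num) (NotCT.Orders.co1 h1) (by norm_num) (by decide)).elim
    · tauto
    · tauto
    · tauto
    · tauto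
    · exact (kill (p := 13) (by norm_num) (NotCT.Orders.suz h1) (by norm_num) (by decide)).elim
    · exact (kill (p := 17) (by norm_num) (NotCT.Orders.he h1) (by norm_num) (by decide)).elim
    · exact (kill (p := 13) (by norm_num) (NotCT.Orders.ru h1) (by norm_num) (by decide)).elim
    · exact (kill (p := 19) (by norm_num) (NotCT.Orders.on h1) (by norm_num) (by decide)).elim
    · exact (kill (p := 31) (by norm_num) (NotCT.Orders.ly h1) (by norm_num) (by decide)).elim
    · exact (kill (p := 13) (by norm_num) (NotCT.Orders.fi22 h1) (by norm_num) (by decide)).elim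
    · exact (kill (p := 13) (by norm_num) (NotCT.Orders.fi23 h1) (by norm_num) (by decide)).elim
    · exact (kill (p := 13) (by norm_num) (NotCT.Orders.fi24 h1) (by norm_num) (by decide)).elim
    · exact (kill (p := 19) (by norm_num) (NotCT.Orders.hn h1) (by norm_num) (by decide)).elim
    · exact (kill (p := 13) (by norm_num) (NotCT.Orders.th h1) (by norm_num) (by decide)).elim
    · exact (kill (p := 13) (by norm_num) (NotCT.Orders.b h1) (by norm_num) (by decide)).elim
    · exact (kill (p := 13) (by norm_num) (NotCT.Orders.m h1) (by norm_num) (by decide)).elim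

end Cfsg.Agent.H42.S8.Soc
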